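import Groth.Prelude.Def_WeilRes
import Groth.Agent.Neron.K131.BddCalc
import Groth.Agent.Neron.K131.UnifDvr

/-!
# Rational points of a Weil restriction are bounded

`K667.WeilBdd.bdd_weil`: `R ⊆ R'` a finite extension of discrete valuation rings with fraction fields `K ⊆ E`, `X` of
finite type over `E` with bounded `X(E)`, `W` of finite type over `K` a Weil restriction of `X`: then `W(K)` is bounded.

`exists_alg`: for an affine `E`-scheme `Spec D` with coordinates `x`, the explicit algebra `Z` with coordinates `z l j`,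
`x l ↦ ∑ z l j ⊗ b j`.
-/

set_option autoImplicit false
universe u

open CategoryTheory CategoryTheory.Limits AlgebraicGeometry
open scoped TensorProduct

namespace K667.WeilBdd

section algebra

variable (K E : Type u) [Field K] [Field E] [Algebra K E] {d : ℕ} (b : Module.Basis (Fin d) K E)

variable {E} in
/-- The `j`-th coordinate `A ⊗ E → A`. -/
noncomputable def crd (A : Type u) [CommRing A] [Algebra K A] (j : Fin d) : A ⊗[K] E →ₗ[A] A :=
  (TensorProduct.AlgebraTensorModule.rid K A A).toLinearMap ∘ₗ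
    TensorProduct.AlgebraTensorModule.map (LinearMap.id : A →ₗ[A] A) (b.coord j)

variable {K E}

theorem crd_tmul (A : Type u) [CommRing A] [Algebra K A] (j : Fin d) (a : A) (e : E) :
    crd K b A j (a ⊗ₜ e) = b.coord j e • a := by
  simp [crd]

theorem sum_crd (A : Type u) [CommRing A] [Algebra K A] (t : A ⊗[K] E) :
    ∑ j, crd K b A j t ⊗ₜ[K] b j = t := by
  induction t using TensorProduct.induction_on with
  | zero => simp
  | add s t hs ht =>
    simp only [map_add, TensorProduct.add_tmul, Finset.sum_add_distrib]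
    rw [hs, ht]
  | tmul a e =>
    simp only [crd_tmul]
    conv_rhs => rw [← b.sum_repr e]
    rw [TensorProduct.tmul_sum]
    refine Finset.sum_congr rfl fun j _ => ?_
    rw [TensorProduct.smul_tmul]
    rfl

theorem exists_desc {P D C : Type u} [CommRing P] [CommRing D] [CommRing C] (π : P →+* D)
    (hπ : Function.Surjective π) (Φ : P →+* C) (h : ∀ p, π p = 0 → Φ p = 0) :
    ∃ ψ : D →+* C, ∀ p, ψ (π p) = Φ p :=
  ⟨RingHom.liftOfSurjective π hπ ⟨Φ, fun P hP => RingHom.mem_ker.2 (h P (RingHom.mem_ker.1 hP))⟩,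
    fun P => RingHom.liftOfRightInverse_comp_apply _ _ _ _ P⟩

/-- The explicit Weil restriction of an algebra with coordinates `x`. -/
theorem exists_alg {D : Type u} [CommRing D] [Algebra E D] {m : ℕ} {x : Fin m → D}
    (hx : Algebra.adjoin E (Set.range x) = ⊤) :
    ∃ (Z : Type u) (_ : CommRing Z) (_ : Algebra K Z) (z : Fin m × Fin d → Z) (ψ : D →+* Z ⊗[K] E),
      Algebra.adjoin K (Set.range z) = ⊤ ∧
      (∀ e, ψ (algebraMap E D e) = 1 ⊗ₜ e) ∧ (∀ l, ψ (x l) = ∑ j, z (l, j) ⊗ₜ b j) ∧
      ∀ δ : D →+* E, δ.comp (algebraMap E D) = RingHom.id E →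
        ∃ ε : Z →ₐ[K] K, ∀ l j, ε (z (l, j)) = b.repr (δ (x l)) j := by
  classical
  let A := MvPolynomial (Fin m × Fin d) K
  -- the generic point with values in `A ⊗ E`
  let φ : MvPolynomial (Fin m) E →+* A ⊗[K] E :=
    MvPolynomial.eval₂Hom (Algebra.TensorProduct.includeRight : E →ₐ[K] A ⊗[K] E).toRingHom
      (fun l => ∑ j, (MvPolynomial.X (l, j) : A) ⊗ₜ[K] b j)
  let pr : MvPolynomial (Fin m) E →ₐ[E] D := MvPolynomial.aeval x
  have hpr : Function.Surjective pr := by
    rw [← AlgHom.range_eq_top, ← hx, Algebra.adjoin_range_eq_range_aeval]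
  let J' : Ideal A := Ideal.span {a | ∃ (P : MvPolynomial (Fin m) E) (j : Fin d), pr P = 0 ∧ crd K b A j (φ P) = a}
  let mk : A →ₐ[K] A ⧸ J' := Ideal.Quotient.mkₐ K J'
  let Φ : MvPolynomial (Fin m) E →+* (A ⧸ J') ⊗[K] E :=
    (Algebra.TensorProduct.map mk (AlgHom.id K E)).toRingHom.comp φ
  have hΦ : ∀ P, pr P = 0 → Φ P = 0 := by
    intro P hP
    change Algebra.TensorProduct.map mk (AlgHom.id K E) (φ P) = 0
    rw [← sum_crd b A (φ P), map_sum]
    refine Finset.sum_eq_zero fun j _ => ?_
    rw [Algebra.TensorProduct.map_tmul]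
    have : mk (crd K b A j (φ P)) = 0 := Ideal.Quotient.eq_zero_iff_mem.2 (Ideal.subset_span ⟨P, j, hP, rfl⟩)
    rw [this, TensorProduct.zero_tmul]
  obtain ⟨ψ, hψ⟩ : ∃ ψ : D →+* (A ⧸ J') ⊗[K] E, ∀ P, ψ (pr P) = Φ P := 
    exists_desc (C := (A ⧸ J') ⊗[K] E) pr.toRingHom hpr Φ hΦ
  refine ⟨A ⧸ J', inferInstance, inferInstance, fun p => mk (MvPolynomial.X p), ψ, ?_, ?_, ?_, ?_⟩
  · have h1 : Function.Surjective (MvPolynomial.aeval (R := K) fun p => mk (MvPolynomial.X p)) := by
      have h2 : (MvPolynomial.aeval (R := K) fun p => mk (MvPolynomial.X p)) = mk := by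
        ext p
        simp
      rw [h2]
      exact Ideal.Quotient.mkₐ_surjective K J'
    rw [Algebra.adjoin_range_eq_range_aeval, AlgHom.range_eq_top]
    exact h1
  · intro e
    have h1 : pr (MvPolynomial.C e) = algebraMap E D e := MvPolynomial.aeval_C _ _
    rw [← h1, hψ]
    change Algebra.TensorProduct.map mk (AlgHom.id K E) (φ (MvPolynomial.C e)) = _
    have h2 : φ (MvPolynomial.C e) = (1 : A) ⊗ₜ[K] e := MvPolynomial.eval₂Hom_C _ _ _
    rw [h2, Algebra.TensorProduct.map_tmul, map_one]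
    rfl
  · intro l
    have h1 : pr (MvPolynomial.X l) = x l := MvPolynomial.aeval_X _ _
    rw [← h1, hψ]
    change Algebra.TensorProduct.map mk (AlgHom.id K E) (φ (MvPolynomial.X l)) = _
    have h2 : φ (MvPolynomial.X l) = ∑ j, (MvPolynomial.X (l, j) : A) ⊗ₜ[K] b j := MvPolynomial.eval₂Hom_X' _ _ _
    rw [h2, map_sum]
    rfl
  · intro δ hδ
    let ε₀ : A →ₐ[K] K := MvPolynomial.aeval fun p => b.repr (δ (x p.1)) p.2
    -- the value of the generic point at `ε₀`
    let ev : A ⊗[K] E →ₐ[K] E := Algebra.TensorProduct.lift ((Algebra.ofId K E).comp ε₀) (AlgHom.id K E)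
      (fun _ _ => mul_comm _ _)
    have hev : ∀ P, ev (φ P) = δ (pr P) := by
      intro P
      have h1 : (ev : A ⊗[K] E →+* E).comp φ = δ.comp (pr : MvPolynomial (Fin m) E →+* D) := by
        apply MvPolynomial.ringHom_ext
        · intro e
          have h2 : φ (MvPolynomial.C e) = (1 : A) ⊗ₜ[K] e := MvPolynomial.eval₂Hom_C _ _ _
          have h3 : δ (algebraMap E D e) = e := congr($hδ e)
          change ev (φ (MvPolynomial.C e)) = δ (pr (MvPolynomial.C e))
          rw [h2, MvPolynomial.aeval_C, h3, Algebra.TensorProduct.lift_tmul, map_one, one_mul]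
          rfl
        · intro l
          have h2 : φ (MvPolynomial.X l) = ∑ j, (MvPolynomial.X (l, j) : A) ⊗ₜ[K] b j :=
            MvPolynomial.eval₂Hom_X' _ _ _
          change ev (φ (MvPolynomial.X l)) = δ (pr (MvPolynomial.X l))
          rw [h2, MvPolynomial.aeval_X, map_sum]
          conv_rhs => rw [← b.sum_repr (δ (x l))]
          refine Finset.sum_congr rfl fun j _ => ?_
          rw [Algebra.TensorProduct.lift_tmul, AlgHom.comp_apply, MvPolynomial.aeval_X, Algebra.smul_def]
          rfl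
      exact congr($h1 P)
    have hcrd : ∀ t j, ε₀ (crd K b A j t) = b.repr (ev t) j := by
      intro t j
      induction t using TensorProduct.induction_on with
      | zero => simp
      | add s t hs ht => simp only [map_add, hs, ht, Finsupp.add_apply]
      | tmul a e =>
        rw [crd_tmul, map_smul, Algebra.TensorProduct.lift_tmul, AlgHom.comp_apply]
        change b.repr e j • ε₀ a = b.repr (algebraMap K E (ε₀ a) * e) j
        rw [← Algebra.smul_def, map_smul, Finsupp.smul_apply, smul_eq_mul, smul_eq_mul, mul_comm]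
    refine ⟨Ideal.Quotient.liftₐ J' ε₀ ?_, ?_⟩
    · intro a ha
      have h1 : J' ≤ RingHom.ker ε₀ := by
        rw [Ideal.span_le]
        rintro _ ⟨P, j, hP, rfl⟩
        change ε₀ _ = 0
        rw [hcrd, hev, hP, map_zero, map_zero, Finsupp.zero_apply]
      exact h1 ha
    · intro l j
      change ε₀ (MvPolynomial.X (l, j)) = _
      exact MvPolynomial.aeval_X _ _

end algebra

section geometry

variable {K E : Type u} [Field K] [Field E] [Algebra K E]

local notation "𝔣" => Spec.map (CommRingCat.ofHom (algebraMap K E))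

/-- A `K`-algebra as a scheme over `K`. -/
noncomputable abbrev sp (K : Type u) [Field K] (Z : Type u) [CommRing Z] [Algebra K Z] :
    Over (Spec (CommRingCat.of K)) := Over.mk (Spec.map (CommRingCat.ofHom (algebraMap K Z)))

/-- The base change of an affine scheme. -/
noncomputable def bcIso (Z : Type u) [CommRing Z] [Algebra K Z] :
    (Red.bc 𝔣 (sp K Z)).left ≅ Spec (CommRingCat.of (Z ⊗[K] E)) := pullbackSpecIso K Z E

theorem bcIso_inv_fst (Z : Type u) [CommRing Z] [Algebra K Z] :
    (bcIso (E := E) Z).inv ≫ pullback.fst (sp K Z).hom 𝔣 =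
      Spec.map (CommRingCat.ofHom Algebra.TensorProduct.includeLeftRingHom) :=
  pullbackSpecIso_inv_fst K Z E

theorem bcIso_inv_snd (Z : Type u) [CommRing Z] [Algebra K Z] :
    (bcIso (E := E) Z).inv ≫ pullback.snd (sp K Z).hom 𝔣 =
      Spec.map (CommRingCat.ofHom (Algebra.TensorProduct.includeRight : E →ₐ[K] Z ⊗[K] E).toRingHom) :=
  pullbackSpecIso_inv_snd K Z E

/-- The `E`-point of the base change of `T` over a `K`-point. -/
noncomputable def pt : Spec (CommRingCat.of E) ⟶ (Red.bc 𝔣 (Over.mk (𝟙 (Spec (CommRingCat.of K))))).left :=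
  pullback.lift 𝔣 (𝟙 _) (by simp)

instance : IsIso (pt (K := K) (E := E)) := by
  refine ⟨pullback.snd _ _, pullback.lift_snd _ _ _, ?_⟩
  apply pullback.hom_ext
  · rw [Category.assoc, pt, pullback.lift_fst, ← pullback.condition, Category.id_comp]
    exact Category.comp_id _
  · rw [Category.assoc, pt, pullback.lift_snd, Category.id_comp, Category.comp_id]

/-- The base change of a `K`-point of an affine scheme. -/
theorem pt_map {Z : Type u} [CommRing Z] [Algebra K Z] (ε : Z →ₐ[K] K)
    (e : Over.mk (𝟙 (Spec (CommRingCat.of K))) ⟶ sp K Z) (he : e.left = Spec.map (CommRingCat.ofHom ε.toRingHom)) :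
    pt ≫ ((Over.pullback 𝔣).map e).left ≫ (bcIso (E := E) Z).hom =
      Spec.map (CommRingCat.ofHom (Algebra.TensorProduct.lift ((Algebra.ofId K E).comp ε) (AlgHom.id K E)
        (fun _ _ => mul_comm _ _)).toRingHom) := by
  rw [← Category.assoc, ← Iso.eq_comp_inv]
  apply pullback.hom_ext
  · rw [Category.assoc, Category.assoc]
    have h1 : ((Over.pullback 𝔣).map e).left ≫ pullback.fst (sp K Z).hom 𝔣 =
        pullback.fst (Over.mk (𝟙 (Spec (CommRingCat.of K)))).hom 𝔣 ≫ e.left := pullback.lift_fst _ _ _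
    rw [h1, he, bcIso_inv_fst, ← Spec.map_comp, ← Category.assoc]
    have h2 : pt (K := K) (E := E) ≫ pullback.fst (Over.mk (𝟙 (Spec (CommRingCat.of K)))).hom 𝔣 = 𝔣 :=
      pullback.lift_fst _ _ _
    rw [h2, ← Spec.map_comp, ← CommRingCat.ofHom_comp, ← CommRingCat.ofHom_comp]
    congr 2
    ext z
    simp [Algebra.ofId_apply]
  · rw [Category.assoc, Category.assoc]
    have h1 : ((Over.pullback 𝔣).map e).left ≫ pullback.snd (sp K Z).hom 𝔣 =
        pullback.snd (Over.mk (𝟙 (Spec (CommRingCat.of K)))).hom 𝔣 := pullback.lift_snd _ _ _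
    have h2 : pt (K := K) (E := E) ≫ pullback.snd (Over.mk (𝟙 (Spec (CommRingCat.of K)))).hom 𝔣 = 𝟙 _ :=
      pullback.lift_snd _ _ _
    rw [h1, h2, bcIso_inv_snd, ← Spec.map_comp, ← CommRingCat.ofHom_comp]
    have h3 : (Algebra.TensorProduct.lift ((Algebra.ofId K E).comp ε) (AlgHom.id K E)
        (fun _ _ => mul_comm _ _)).toRingHom.comp
        (Algebra.TensorProduct.includeRight : E →ₐ[K] Z ⊗[K] E).toRingHom = RingHom.id E := by
      ext z
      simp
    rw [h3]
    exact (Spec.map_id _).symm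

theorem pt_snd : pt (K := K) (E := E) ≫ (Red.bc 𝔣 (Over.mk (𝟙 (Spec (CommRingCat.of K))))).hom = 𝟙 _ :=
  pullback.lift_snd _ _ _

end geometry

section main

open K131.Bdd K131.BddImg K131.BddCalc

variable {R K R' E : Type u} [CommRing R] [IsDomain R] [IsDiscreteValuationRing R] [Field K] [Algebra R K]
    [IsFractionRing R K] [CommRing R'] [Field E] [Algebra R' E]
    [Algebra K E] [Algebra R R'] [Algebra R E] [IsScalarTower R K E]
    [IsScalarTower R R' E] [Module.Finite R R']

omit [IsDomain R] [IsDiscreteValuationRing R] [IsFractionRing R K] in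
/-- The coordinates of the elements of `R'` are bounded. -/
theorem exists_coord {d : ℕ} (b : Module.Basis (Fin d) K E) {π : R} (hπ : Unif K π) :
    ∃ N : ℕ, ∀ (r : R') (j : Fin d),
      algebraMap R K (π ^ N) * b.repr (algebraMap R' E r) j ∈ Set.range (algebraMap R K) := by
  classical
  obtain ⟨s, hs⟩ := Module.Finite.fg_top (R := R) (M := R')
  have h1 : ∀ p : s × Fin d, ∃ N : ℕ,
      algebraMap R K (π ^ N) * b.repr (algebraMap R' E p.1) p.2 ∈ Set.range (algebraMap R K) :=
    fun p => hπ.exists_pow _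
  choose n hn using h1
  refine ⟨Finset.univ.sup n, fun r j => ?_⟩
  have hr : r ∈ Submodule.span R (s : Set R') := by rw [hs]; trivial
  change _ ∈ (algebraMap R K).range
  induction hr using Submodule.span_induction with
  | mem r hr =>
    obtain ⟨k, hk⟩ := Nat.exists_eq_add_of_le (Finset.le_sup (f := n) (Finset.mem_univ (⟨⟨r, hr⟩, j⟩ : s × Fin d)))
    have e : algebraMap R K (π ^ Finset.univ.sup n) * b.repr (algebraMap R' E r) j =
        algebraMap R K (π ^ k) * (algebraMap R K (π ^ n (⟨⟨r, hr⟩, j⟩ : s × Fin d)) *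
          b.repr (algebraMap R' E r) j) := by
      rw [hk, pow_add, map_mul]; ring
    rw [e]
    exact Subring.mul_mem (algebraMap R K).range ⟨_, rfl⟩ (hn _)
  | zero => simp
  | add x y _ _ hx hy =>
    rw [map_add, map_add, Finsupp.add_apply, mul_add]
    exact Subring.add_mem _ hx hy
  | smul a x _ hx =>
    have e : algebraMap R' E (a • x) = algebraMap R K a • algebraMap R' E x := by
      rw [Algebra.smul_def, map_mul, ← IsScalarTower.algebraMap_apply R R' E, Algebra.smul_def,
        ← IsScalarTower.algebraMap_apply R K E]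
    rw [e, map_smul, Finsupp.smul_apply, smul_eq_mul, mul_left_comm]
    exact Subring.mul_mem _ ⟨_, rfl⟩ hx

variable [FiniteDimensional K E]

local notation "𝔣" => Spec.map (CommRingCat.ofHom (algebraMap K E))

/-- The `E`-point of `X` attached to a `K`-point of the Weil restriction. -/
noncomputable def val {X : Over (Spec (CommRingCat.of E))} {W : Over (Spec (CommRingCat.of K))}
    (q : Red.bc 𝔣 W ⟶ X) (c : Over.mk (𝟙 (Spec (CommRingCat.of K))) ⟶ W) : Spec (CommRingCat.of E) ⟶ X.left :=
  pt ≫ (WeilRes.restr 𝔣 q _ c).left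

omit [FiniteDimensional K E] in
theorem val_comp {X : Over (Spec (CommRingCat.of E))} {W : Over (Spec (CommRingCat.of K))}
    (q : Red.bc 𝔣 W ⟶ X) (c : Over.mk (𝟙 (Spec (CommRingCat.of K))) ⟶ W) : val q c ≫ X.hom = 𝟙 _ := by
  rw [val, Category.assoc, Over.w, pt_snd]

omit [IsDiscreteValuationRing R] [Algebra R R'] [Algebra R E] [IsScalarTower R K E] [IsScalarTower R R' E]
  [Module.Finite R R'] [FiniteDimensional K E] in
theorem exists_chart [ValuationRing R] {π : R} (hπ : Unif K π)
    {X : Over (Spec (CommRingCat.of E))}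
    {W : Over (Spec (CommRingCat.of K))} [LocallyOfFiniteType W.hom] [CompactSpace W.left]
    {q : Red.bc 𝔣 W ⟶ X} (hW : WeilRes.IsWeilRes 𝔣 X W q) (Y : Charts X.hom) (i : Fin Y.n)
    {d : ℕ} (b : Module.Basis (Fin d) K E) {N : ℕ} (hN : ∀ (r : R') (j : Fin d),
      algebraMap R K (π ^ N) * b.repr (algebraMap R' E r) j ∈ Set.range (algebraMap R K)) :
    Bdd R W.hom (fun c => ∃ (hc : c ≫ W.hom = 𝟙 _) (δ : Y.D i →+* E), δ.comp (algebraMap E (Y.D i)) = RingHom.id E ∧
      (∀ l, δ (Y.x i l) ∈ Set.range (algebraMap R' E)) ∧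
      Spec.map (CommRingCat.ofHom δ) ≫ Y.u i = val q (Over.homMk c hc)) := by
  obtain ⟨Z, _, _, z, ψ, hz, hψ1, hψ2, hψ3⟩ := exists_alg b (Y.adjoin i)
  let g' : Red.bc 𝔣 (sp K Z) ⟶ X := Over.homMk ((bcIso Z).hom ≫ Spec.map (CommRingCat.ofHom ψ) ≫ Y.u i) (by
    have h1 : ψ.comp (algebraMap E (Y.D i)) =
        (Algebra.TensorProduct.includeRight : E →ₐ[K] Z ⊗[K] E).toRingHom := RingHom.ext hψ1
    rw [Category.assoc, Category.assoc, Y.over, ← Spec.map_comp, ← CommRingCat.ofHom_comp, h1, ← Iso.eq_inv_comp]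
    exact (bcIso_inv_snd Z).symm)
  let w : sp K Z ⟶ W := hW.lift (sp K Z) g'
  have hw : w.left ≫ W.hom = Spec.map (CommRingCat.ofHom (algebraMap K Z)) := Over.w w
  -- the bounded set of points of `Spec Z`
  let Q : (Spec (CommRingCat.of K) ⟶ Spec (CommRingCat.of Z)) → Prop := fun c =>
    ∃ ε : Z →ₐ[K] K, c = Spec.map (CommRingCat.ofHom ε.toRingHom) ∧
      ∀ p, algebraMap R K (π ^ N) * ε (z p) ∈ Set.range (algebraMap R K)
  let C : Charts (Spec.map (CommRingCat.ofHom (algebraMap K Z))) :=
    { n := 1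
      D := fun _ => Z
      u := fun _ => 𝟙 _
      m := fun _ => Y.m i * d
      x := fun _ l => z (finProdFinEquiv.symm l)
      isOpenImmersion := fun _ => inferInstance
      over := fun _ => Category.id_comp _
      adjoin := fun _ => by
        rw [← hz]
        congr 1
        exact finProdFinEquiv.symm.surjective.range_comp z }
  have hQ : Bdd R (Spec.map (CommRingCat.ofHom (algebraMap K Z))) Q := by
    refine bdd_of_inS hπ.ne_zero C N ?_
    rintro _ - ⟨ε, rfl, h⟩
    exact ⟨0, ε.toRingHom, RingHom.ext fun x => ε.commutes x, fun l => h _, Category.comp_id _⟩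
  obtain ⟨Y', hY'⟩ := image hπ w.left hw hQ
  refine ⟨Y', fun c hc => ?_⟩
  rintro ⟨hc', δ, hδ, hint, hδc⟩
  refine hY' c hc ?_
  obtain ⟨ε, hε⟩ := hψ3 δ hδ
  refine ⟨Spec.map (CommRingCat.ofHom ε.toRingHom), ?_, ⟨ε, rfl, fun p => ?_⟩, ?_⟩
  · rw [← Spec.map_comp, ← CommRingCat.ofHom_comp]
    have h1 : ε.toRingHom.comp (algebraMap K Z) = RingHom.id K := RingHom.ext fun x => ε.commutes x
    rw [h1]
    exact Spec.map_id _
  · obtain ⟨r, hr⟩ := hint p.1
    have h1 := hN r p.2
    rw [hr, ← hε] at h1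
    exact h1
  · let e : Over.mk (𝟙 (Spec (CommRingCat.of K))) ⟶ sp K Z := Over.homMk (Spec.map (CommRingCat.ofHom ε.toRingHom)) (by
      change Spec.map _ ≫ Spec.map _ = 𝟙 _
      rw [← Spec.map_comp, ← CommRingCat.ofHom_comp]
      have h1 : ε.toRingHom.comp (algebraMap K Z) = RingHom.id K := RingHom.ext fun x => ε.commutes x
      rw [h1]
      exact Spec.map_id _)
    have key : e ≫ w = Over.homMk c hc' := by
      apply (hW _).1
      rw [WeilRes.restr_comp, hW.restr_lift]
      apply Over.OverMorphism.ext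
      rw [← cancel_epi (pt (K := K) (E := E))]
      have h2 : pt ≫ (WeilRes.restr 𝔣 q _ (Over.homMk c hc')).left = Spec.map (CommRingCat.ofHom δ) ≫ Y.u i := hδc.symm
      rw [h2, Over.comp_left]
      change pt ≫ ((Over.pullback 𝔣).map e).left ≫ (bcIso Z).hom ≫ Spec.map (CommRingCat.ofHom ψ) ≫ Y.u i = _
      have h3 := pt_map (E := E) ε e rfl
      rw [← Category.assoc ((Over.pullback 𝔣).map e).left, ← Category.assoc pt, h3, ← Category.assoc,
        ← Spec.map_comp, ← CommRingCat.ofHom_comp]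
      congr 3
      refine RingHom.ext fun t => ?_
      have ht : t ∈ Algebra.adjoin E (Set.range (Y.x i)) := by rw [Y.adjoin]; trivial
      induction ht using Algebra.adjoin_induction with
      | mem t ht =>
        obtain ⟨l, rfl⟩ := ht
        change Algebra.TensorProduct.lift ((Algebra.ofId K E).comp ε) (AlgHom.id K E) (fun _ _ => mul_comm _ _)
          (ψ (Y.x i l)) = δ (Y.x i l)
        rw [hψ2, map_sum]
        conv_rhs => rw [← b.sum_repr (δ (Y.x i l))]
        refine Finset.sum_congr rfl fun j _ => ?_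
        rw [Algebra.TensorProduct.lift_tmul, AlgHom.comp_apply, hε, Algebra.smul_def]
        rfl
      | algebraMap r =>
        change Algebra.TensorProduct.lift ((Algebra.ofId K E).comp ε) (AlgHom.id K E) (fun _ _ => mul_comm _ _)
          (ψ (algebraMap E (Y.D i) r)) = δ (algebraMap E (Y.D i) r)
        rw [hψ1, Algebra.TensorProduct.lift_tmul, map_one, one_mul]
        exact congr($hδ r).symm
      | add x y _ _ hx hy => rw [map_add, map_add, hx, hy]
      | mul x y _ _ hx hy => rw [map_mul, map_mul, hx, hy]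
    exact congrArg CommaMorphism.left key

/-- **The rational points of a Weil restriction are bounded.** -/
theorem bdd_weil (R K R' E : Type u) [CommRing R] [IsDomain R] [IsDiscreteValuationRing R] [Field K] [Algebra R K]
    [IsFractionRing R K] [CommRing R'] [IsDomain R'] [IsDiscreteValuationRing R'] [Field E] [Algebra R' E]
    [IsFractionRing R' E] [Algebra K E] [FiniteDimensional K E] [Algebra R R'] [Algebra R E] [IsScalarTower R K E]
    [IsScalarTower R R' E] [Module.Finite R R']
    (X : Over (Spec (CommRingCat.of E))) [LocallyOfFiniteType X.hom] [QuasiCompact X.hom]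
    (W : Over (Spec (CommRingCat.of K))) [LocallyOfFiniteType W.hom] [QuasiCompact W.hom]
    (q : Red.bc (Spec.map (CommRingCat.ofHom (algebraMap K E))) W ⟶ X)
    (hW : WeilRes.IsWeilRes (Spec.map (CommRingCat.ofHom (algebraMap K E))) X W q)
    (hX : K131.Bdd.Bdd R' X.hom (fun _ => True)) : K131.Bdd.Bdd R W.hom (fun _ => True) := by
  obtain ⟨Y, hY⟩ := hX
  obtain ⟨ϖ, hϖ⟩ := IsDiscreteValuationRing.exists_irreducible R
  have hπ : Unif K ϖ := K131.UnifDvr.unif hϖ.ne_zero hϖ.not_isUnit
  obtain ⟨N, hN⟩ := exists_coord (R' := R') (Module.finBasis K E) hπ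
  have : CompactSpace W.left := (quasiCompact_iff_compactSpace W.hom).1 inferInstance
  obtain ⟨Y', hY'⟩ := finite_union hπ (fun i => exists_chart hπ hW Y i (Module.finBasis K E) hN)
  refine ⟨Y', fun c hc _ => hY' c hc ?_⟩
  obtain ⟨i, δ, h1, h2, h3⟩ := hY (val q (Over.homMk c hc)) (val_comp _ _) trivial
  exact ⟨i, hc, δ, h1, h2, h3⟩

end main

end K667.WeilBdd
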